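import Cfsg.Agent.ChevalleyStructure.E6Min.Tables
set_option linter.all false

/-!
# Kernel checks of the tables of the 27-dimensional module of E₆ (second part)
-/

set_option autoImplicit false

namespace Cfsg.Agent.ChevalleyStructure.E6Min.Checks2

open Cfsg.Lie Cfsg.Agent.ChevalleyStructure.E6Min.Tables

/-- implication on Booleans -/
def imp (a b : Bool) : Bool := !a || b

theorem imp_spec {a b : Bool} (h : imp a b = true) (ha : a = true) : b = true := by
  subst ha; simpa [imp] using h

/-! ### square zero, opposite roots, weights -/

theorem sq_all : allLt 72 (fun r => allLt 27 fun j => (sgN r j == 0) || (sgN r (srN r j) == 0)) = true := by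
  decide +kernel

theorem opp_all : allLt 72 (fun r => allLt 27 fun j => (sgN r j == 0) ||
    ((srN (71 - r) (srN r j) == j) && (sgN r j * sgN (71 - r) (srN r j) == 1) && (sgN (71 - r) j == 0))) = true := by
  decide +kernel

/-- value of the indicator of the non-zero rows -/
def indN (r j : ℕ) : ℤ := if sgN r j = 0 then 0 else 1

/-- coroot coefficients of the datum -/
def coN (r i : ℕ) : ℤ := (chevE6.coroot.getD r #[]).getD i 0

/-- Cartan integers of the datum -/
def carN (i r : ℕ) : ℤ := (chevE6.cartanSR.getD i #[]).getD r 0

theorem wt_all : allLt 72 (fun r => allLt 27 fun j =>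
    (indN r j - indN (71 - r) j == coN r 0 * lbN j 0 + coN r 1 * lbN j 1 + coN r 2 * lbN j 2 + coN r 3 * lbN j 3 +
      coN r 4 * lbN j 4 + coN r 5 * lbN j 5)) = true := by
  decide +kernel

theorem car_all : allLt 72 (fun r => allLt 27 fun j => allLt 6 fun i =>
    (sgN r j == 0) || (lbN j i - lbN (srN r j) i == carN i r)) = true := by
  decide +kernel

theorem neg_all : allLt 72 (fun r => chevE6.negIdx.getD r 0 == 71 - r) = true := by decide +kernel

/-! ### relations between indices -/

theorem rel_all : allLt 27 (fun i => allLt 27 fun j =>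
    Nat.blt (relN i j) 3 && (relN i j == relN j i) && ((relN i j == 0) == (i == j))) = true := by decide +kernel

theorem rt_all : allLt 27 (fun i => allLt 27 fun j => !(relN i j == 1) ||
    (Nat.blt (rtN i j) 72 && !(sgN (rtN i j) j == 0) && (srN (rtN i j) j == i) && (sgN (rtN i j) i == 0))) = true := by
  decide +kernel

/-- only the coordinate `j` among the neighbours of `i` is changed by the root element moving `i` to `j` -/
theorem c4_all : allLt 27 (fun i => allLt 27 fun j => !(relN i j == 1) || allLt 27 fun k => !(relN i k == 1) ||
    (k == j) || (sgN (rtN i j) k == 0)) = true := by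
  decide +kernel

/-- the basis vectors moved by the root element moving `i` to `j` -/
theorem c1_all : allLt 27 (fun i => allLt 27 fun j => !(relN i j == 1) || allLt 27 fun m => (m == i) ||
    ((relN m i == 1) && (relN m j == 2)) ||
    allLt 27 fun x => (sgN (rtN i j) x == 0) || !(srN (rtN i j) x == m)) = true := by
  decide +kernel

/-! ### triads -/

theorem tri_lt_all : allLt 45 (fun n => Nat.blt (t1N n) 27 && Nat.blt (t2N n) 27 && Nat.blt (t3N n) 27 &&
    !(t1N n == t2N n) && !(t1N n == t3N n) && !(t2N n == t3N n)) = true := by decide +kernel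

/-- `{m, th, k}` is the triad `tnN m k` when `relN m k = 2` -/
def isTri (n a b c : ℕ) : Bool :=
  ((t1N n == a) && (t2N n == b) && (t3N n == c)) || ((t1N n == a) && (t2N n == c) && (t3N n == b)) ||
  ((t1N n == b) && (t2N n == a) && (t3N n == c)) || ((t1N n == b) && (t2N n == c) && (t3N n == a)) ||
  ((t1N n == c) && (t2N n == a) && (t3N n == b)) || ((t1N n == c) && (t2N n == b) && (t3N n == a))

theorem th_all : allLt 27 (fun m => allLt 27 fun k => !(relN m k == 2) ||
    (Nat.blt (thN m k) 27 && Nat.blt (tnN m k) 45 && isTri (tnN m k) m k (thN m k) && !(thN m k == m) &&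
      !(thN m k == k) && (relN m (thN m k) == 2) && (relN k (thN m k) == 2) && (thN m (thN m k) == k))) = true := by
  decide +kernel

/-- a triad containing `m` and `k` (in different places) is the triad `tnN m k` -/
theorem mem2_all : allLt 45 (fun n => 
    let p (a b : ℕ) : Bool := (relN a b == 2) && (tnN a b == n)
    p (t1N n) (t2N n) && p (t1N n) (t3N n) && p (t2N n) (t1N n) && p (t2N n) (t3N n) && p (t3N n) (t1N n) &&
      p (t3N n) (t2N n)) = true := by decide +kernel

/-- a triad containing `k`, where `relN i k = 2`, is the one through `i` and `k` or contains a neighbour of `i` -/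
theorem c5_all : allLt 27 (fun i => allLt 27 fun k => !(relN i k == 2) || allLt 45 fun n => (n == tnN i k) ||
    ((!(t1N n == k) || (relN i (t2N n) == 1) || (relN i (t3N n) == 1)) &&
     (!(t2N n == k) || (relN i (t1N n) == 1) || (relN i (t3N n) == 1)) &&
     (!(t3N n == k) || (relN i (t1N n) == 1) || (relN i (t2N n) == 1)))) = true := by decide +kernel

/-! ### the chain table -/

/-- what the chain table should contain for `r, s` -/
def expected (r s : ℕ) : List (ℕ × Array (ℕ × ℤ)) :=
  if s + r = 71 ∨ kN r s = 127 then [] else [(s, #[(kN r s, cN r s)])]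

theorem chain_all : allLt 72 (fun r => allLt 72 fun s =>
    decide (((chevE6.chain.getD r #[]).toList.filter (fun e => e.1 = s)) = expected r s)) = true := by
  decide +kernel

end Cfsg.Agent.ChevalleyStructure.E6Min.Checks2
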