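import Cfsg.Agent.ChevalleyStructure.E6Min.Basic
set_option linter.all false

/-!
# The cubic form in coordinates
-/

set_option autoImplicit false

namespace Cfsg.Agent.ChevalleyStructure.E6Min.Expand

open Cfsg.Lie Cfsg.Agent.ChevalleyStructure.E6Min.Tables Cfsg.Agent.ChevalleyStructure.E6Min.Basic

/-- `1 + t N_r` on vectors -/
def zv {F : Type*} [CommRing F] (r : ℕ) (t : F) (v : I27 → F) : I27 → F :=
  fun x => v x + t * (((sg r x : ℤ) : F) * v (sr r x))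

theorem zv_def {F : Type*} [CommRing F] (r : ℕ) (t : F) (v : I27 → F) (x : I27) :
    zv r t v x = v x + t * (((sg r x : ℤ) : F) * v (sr r x)) := rfl

theorem cubicT_expand {F : Type*} [CommRing F] (v : I27 → F) : cubicT v =
    v (0, 0, 0) * v (0, 1, 1) * v (0, 2, 2) - v (0, 0, 0) * v (0, 1, 2) * v (0, 2, 1) - v (0, 0, 1) * v (0, 1, 0) * v (0, 2, 2) + v (0, 0, 1) * v (0, 1, 2) * v (0, 2, 0) + v (0, 0, 2) * v (0, 1, 0) * v (0, 2, 1) - v (0, 0, 2) * v (0, 1, 1) * v (0, 2, 0) + v (1, 0, 0) * v (1, 1, 1) * v (1, 2, 2) - v (1, 0, 0) * v (1, 1, 2) * v (1, 2, 1) - v (1, 0, 1) * v (1, 1, 0) * v (1, 2, 2) + v (1, 0, 1) * v (1, 1, 2) * v (1, 2, 0) + v (1, 0, 2) * v (1, 1, 0) * v (1, 2, 1) - v (1, 0, 2) * v (1, 1, 1) * v (1, 2, 0) + v (2, 0, 0) * v (2, 1, 1) * v (2, 2, 2) - v (2, 0, 0) * v (2, 1, 2) * v (2, 2, 1) - v (2, 0, 1) *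 v (2, 1, 0) * v (2, 2, 2) + v (2, 0, 1) * v (2, 1, 2) * v (2, 2, 0) + v (2, 0, 2) * v (2, 1, 0) * v (2, 2, 1) - v (2, 0, 2) * v (2, 1, 1) * v (2, 2, 0) - v (0, 0, 0) * v (1, 0, 0) * v (2, 0, 0) - v (0, 0, 0) * v (1, 0, 1) * v (2, 1, 0) - v (0, 0, 0) * v (1, 0, 2) * v (2, 2, 0) - v (0, 0, 1) * v (1, 1, 0) * v (2, 0, 0) - v (0, 0, 1) * v (1, 1, 1) * v (2, 1, 0) - v (0, 0, 1) * v (1, 1, 2) * v (2, 2, 0) - v (0, 0, 2) * v (1, 2, 0) * v (2, 0, 0) - v (0, 0, 2) * v (1, 2, 1) * v (2, 1, 0) - v (0, 0, 2) * v (1, 2, 2) * v (2, 2, 0) - v (0, 1, 0) * v (1, 0, 0) * v (2, 0, 1) - v (0, 1, 0) * v (1, 0, 1) * v (2, 1, 1) - v (0, 1, 0) * v (1, 0, 2) * v (2, 2, 1) - v (0, 1, 1) * v (1, 1, 0) * v (2, 0, 1) - v (0, 1, 1) * v (1, 1, 1) * v (2, 1, 1) - v (0, 1, 1) * v (1, 1, 2) * v (2, 2, 1) - v (0, 1, 2) * v (1, 2, 0) * v (2, 0, 1) - v (0,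 1, 2) * v (1, 2, 1) * v (2, 1, 1) - v (0, 1, 2) * v (1, 2, 2) * v (2, 2, 1) - v (0, 2, 0) * v (1, 0, 0) * v (2, 0, 2) - v (0, 2, 0) * v (1, 0, 1) * v (2, 1, 2) - v (0, 2, 0) * v (1, 0, 2) * v (2, 2, 2) - v (0, 2, 1) * v (1, 1, 0) * v (2, 0, 2) - v (0, 2, 1) * v (1, 1, 1) * v (2, 1, 2) - v (0, 2, 1) * v (1, 1, 2) * v (2, 2, 2) - v (0, 2, 2) * v (1, 2, 0) * v (2, 0, 2) - v (0, 2, 2) * v (1, 2, 1) * v (2, 1, 2) - v (0, 2, 2) * v (1, 2, 2) * v (2, 2, 2) := by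
  simp only [cubicT, mat3, Matrix.det_fin_three, Matrix.trace, Fin.sum_univ_three, Matrix.diag, Matrix.mul_apply,
    Matrix.of_apply]
  ring

end Cfsg.Agent.ChevalleyStructure.E6Min.Expand
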